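import Cfsg.Agent.Fi23Pts.Points

/-!
The points of the ten generators, closure under transpositions, and the ten-point test.
-/

set_option autoImplicit false
set_option maxRecDepth 100000

namespace CfsgLib.Fi23Pts

open CfsgLib.CosetEnum

noncomputable section

/-- The points of the generators. -/
def gpt : List ℕ := [11589, 8004, 8003, 8000, 8001, 8002, 8005, 8006, 7999, 8007]

/-- Membership. -/
def has (L : List ℕ) (p : ℕ) : Bool := L.any (Nat.beq p)

/-- Saturate by derivations. -/
def close : List (ℕ × ℕ) → List ℕ → List ℕ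
  | [], L => L
  | (p, q) :: s, L => bif has L p && has L q then force (mv p q) fun r => close s (r :: L) else close s L

/-- The edges of the diagram. -/
def chain : List (ℕ × ℕ) := [(0, 1), (1, 2), (2, 3), (3, 4), (4, 5), (5, 6), (6, 7), (3, 8), (8, 9)]

theorem chain_ok : chain.all (fun e => Nat.beq (walkS [e.2, e.1] (gpt.getD e.1 0)) (gpt.getD e.2 0) &&
    decide ([e.1, e.2, e.1, e.2, e.1, e.2] ∈ Fi23.words ∧ [e.1, e.1] ∈ Fi23.words ∧
      [e.2, e.2] ∈ Fi23.words)) = true := by decide +kernel

theorem getD_gpt_lt (k : ℕ) : gpt.getD k 0 < 31671 := by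
  by_cases h : k < 10
  · interval_cases k <;> decide
  · rw [List.getD_eq_default _ _ (show gpt.length ≤ k by simp [gpt]; omega)]
    norm_num

/-- The point of a generator. -/
def gpF (k : ℕ) : Fin N := ⟨gpt.getD k 0, getD_gpt_lt k⟩

theorem mem_of_has {L : List ℕ} {p : ℕ} (h : has L p = true) : p ∈ L := by
  simp only [has, List.any_eq_true, Nat.beq_eq] at h
  obtain ⟨_, h, rfl⟩ := h
  exact h

namespace Act

variable (S : Act)
include S

theorem d_gpF_zero : d (gpF 0) = Fi23.setup.g 0 := by
  rw [show gpF 0 = pa from Fin.ext rfl, S.d_pa]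
  rfl

theorem d_gpF_step {x y : ℕ} (h : (x, y) ∈ chain) (hx : x < 10) (hy : y < 10)
    (hd : d (gpF x) = Fi23.setup.g x) : d (gpF y) = Fi23.setup.g y := by
  have h1 := List.all_eq_true.mp chain_ok _ h
  simp only [Bool.and_eq_true, Nat.beq_eq, decide_eq_true_eq] at h1
  obtain ⟨h1, hw1, hw2, hw3⟩ := h1
  have hb := Fi23.braid hw1 hw2 hw3
  have hsq : Fi23.setup.g x * Fi23.setup.g x = 1 := Fi23.setup.of_sq _
  have hinv : (prodw Fi23.setup.g [y, x])⁻¹ = Fi23.setup.g x * Fi23.setup.g y := by
    rw [← rev_word [y, x] (by intro z hz; simp at hz; rcases hz with rfl | rfl <;> assumption)]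
    simp [prodw]
  have hp : S.φ (Fi23.setup.g x * Fi23.setup.g y) (gpF x) = gpF y := by
    rw [← hinv, map_inv]
    exact Fin.ext ((S.spec [y, x] (by intro z hz; simp at hz; rcases hz with rfl | rfl <;> assumption)
      (gpF x)).trans h1)
  rw [S.d_conj hp, hd, hb]
  group

theorem d_gpF {k : ℕ} (hk : k < 10) : d (gpF k) = Fi23.setup.g k := by
  have e0 := S.d_gpF_zero
  have e1 := S.d_gpF_step (x := 0) (y := 1) (by decide) (by norm_num) (by norm_num) e0
  have e2 := S.d_gpF_step (x := 1) (y := 2) (by decide) (by norm_num) (by norm_num) e1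
  have e3 := S.d_gpF_step (x := 2) (y := 3) (by decide) (by norm_num) (by norm_num) e2
  have e4 := S.d_gpF_step (x := 3) (y := 4) (by decide) (by norm_num) (by norm_num) e3
  have e5 := S.d_gpF_step (x := 4) (y := 5) (by decide) (by norm_num) (by norm_num) e4
  have e6 := S.d_gpF_step (x := 5) (y := 6) (by decide) (by norm_num) (by norm_num) e5
  have e7 := S.d_gpF_step (x := 6) (y := 7) (by decide) (by norm_num) (by norm_num) e6
  have e8 := S.d_gpF_step (x := 3) (y := 8) (by decide) (by norm_num) (by norm_num) e3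
  have e9 := S.d_gpF_step (x := 8) (y := 9) (by decide) (by norm_num) (by norm_num) e8
  interval_cases k <;> assumption

theorem eq_one_of_comm {t : G} (h : ∀ k, k < 10 → S.φ t (gpF k) = gpF k) : t = 1 := by
  haveI := Fi23.finite_grp
  haveI : IsSimpleGroup G := Fi23.isSimpleGroup_Fi23
  have hc : t ∈ Subgroup.center G := by
    rw [Subgroup.mem_center_iff]
    intro y
    have hy : y ∈ Subgroup.centralizer ({t} : Set G) := by
      have h1 : (⊤ : Subgroup G) ≤ Subgroup.centralizer ({t} : Set G) := by
        rw [← Fi23.setup.letSub_all (List.range 10) (fun x hx => List.mem_range.mpr hx)]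
        refine (Subgroup.closure_le _).mpr ?_
        rintro _ ⟨x, hx, rfl⟩
        have hx9 : x < 10 := List.mem_range.mp hx
        have h2 := (S.commute_iff t (gpF x)).2 (h x hx9)
        rw [S.d_gpF hx9] at h2
        show _ ∈ Subgroup.centralizer ({t} : Set G)
        rw [Subgroup.mem_centralizer_singleton_iff]
        simpa [prodw] using h2.eq.symm
      exact h1 (Subgroup.mem_top y)
    rw [Subgroup.mem_centralizer_singleton_iff] at hy
    exact hy
  rcases (inferInstance : (Subgroup.center G).Normal).eq_bot_or_eq_top with h' | h'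
  · rw [h'] at hc
    exact Subgroup.mem_bot.mp hc
  · exfalso
    letI : CommGroup G := Group.commGroupOfCenterEqTop h'
    have hp : (Nat.card G).Prime := IsSimpleGroup.prime_card
    rw [S.card] at hp
    exact absurd hp (by norm_num)

end Act

end

end CfsgLib.Fi23Pts
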