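import Cfsg.Agent.Fi23Pts.Tree
import Cfsg.Agent.Fi23Pts.Tables
import Cfsg.Agent.CosetEnum.WordTest

/-! Words of points, the reflection table and the root words. -/

set_option autoImplicit false
set_option maxRecDepth 100000

namespace CfsgLib.Fi23Pts

open CfsgLib.CosetEnum

noncomputable section

/-- The point of `a`. -/
def PA : ℕ := 11589

/-- The table of a letter. -/
abbrev tb : ℕ → ℕ := Fi23H.tb

/-- The tree word of a point. -/
def pwF (i : ℕ) : ℕ → List ℕ
  | 0 => []
  | f + 1 => bif Nat.beq i PA then [] else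
      force (parL i) fun x => force (parP i) fun j => pwF j f ++ [x]

/-- The tree word of a point. -/
def pw (i : ℕ) : List ℕ := pwF i 50

/-- The word of the transposition at a point. -/
def dw (i : ℕ) : List ℕ := (fun l => l.reverse ++ 0 :: l) (pw i)

/-- The transposition at the first point moves the second one to this point. -/
def mv (p q : ℕ) : ℕ := walkS (dw p) q

/-- The two points commute. -/
def com (p q : ℕ) : Bool := Nat.beq (mv p q) q

/-- The tree words are valid. -/
def pwOK (i : ℕ) : Bool :=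
  bif Nat.blt i 31671 then Nat.beq (walkS (pw i) PA) i && (pw i).all (fun x => Nat.blt x 10) else true

/-- The central word of the point stabiliser. -/
def zw : List ℕ := [1, 2, 3, 4, 5, 6, 8, 1, 2, 3, 4, 5, 6, 8, 1, 2, 3, 4, 5, 6, 8, 1, 2, 3, 4, 5, 6, 8, 1, 2, 3, 4, 5, 6, 8, 1, 2, 3, 4, 5, 6, 8, 1, 2, 3, 4, 5, 6, 8, 1, 2, 3, 4, 5, 6, 8, 1, 2, 3, 4, 5, 6, 8]

/-- The two words of the root agree. -/
def sameRoot (i : ℕ) : Bool :=
  bif Nat.blt i 31671 then Nat.beq (walkS (dw 0) i) (walkS zw i) else true

end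

end CfsgLib.Fi23Pts
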