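import Cfsg.Agent.Fi23Pts.Base

/-! The central word agrees with the transposition at the point 0. -/

set_option autoImplicit false
set_option maxRecDepth 100000
set_option Elab.async false

namespace CfsgLib.Fi23Pts

open CfsgLib.CosetEnum

noncomputable section

theorem root_ok0 : allR sameRoot 11 0 = true := by decide +kernel

theorem root_ok1 : allR sameRoot 11 2048 = true := by decide +kernel

theorem root_ok2 : allR sameRoot 11 4096 = true := by decide +kernel

theorem root_ok3 : allR sameRoot 11 6144 = true := by decide +kernel

theorem root_ok4 : allR sameRoot 11 8192 = true := by decide +kernel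

theorem root_ok5 : allR sameRoot 11 10240 = true := by decide +kernel

theorem root_ok6 : allR sameRoot 11 12288 = true := by decide +kernel

theorem root_ok7 : allR sameRoot 11 14336 = true := by decide +kernel

theorem root_ok8 : allR sameRoot 11 16384 = true := by decide +kernel

theorem root_ok9 : allR sameRoot 11 18432 = true := by decide +kernel

theorem root_ok10 : allR sameRoot 11 20480 = true := by decide +kernel

theorem root_ok11 : allR sameRoot 11 22528 = true := by decide +kernel

theorem root_ok12 : allR sameRoot 11 24576 = true := by decide +kernel

theorem root_ok13 : allR sameRoot 11 26624 = true := by decide +kernel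

theorem root_ok14 : allR sameRoot 11 28672 = true := by decide +kernel

theorem root_ok15 : allR sameRoot 11 30720 = true := by decide +kernel

theorem root_ok : allR sameRoot 15 0 = true :=
  (allR_join (d := 14) (lo := 0) (hi := 16384) (allR_join (d := 13) (lo := 0) (hi := 8192) (allR_join (d := 12) (lo := 0) (hi := 4096) (allR_join (d := 11) (lo := 0) (hi := 2048) root_ok0 (by decide +kernel) root_ok1) (by decide +kernel) (allR_join (d := 11) (lo := 4096) (hi := 6144) root_ok2 (by decide +kernel) root_ok3)) (by decide +kernel) (allR_join (d := 12) (lo := 8192) (hi := 12288) (allR_join (d := 11) (lo := 8192) (hi := 10240) root_ok4 (by decide +kernel) root_ok5) (by decide +kernel) (allR_join (d := 11) (lo := 12288) (hi := 14336) root_ok6 (by decide +kernel) root_ok7))) (by decide +kernel) (allR_join (d := 13) (lo := 16384) (hi := 24576) (allR_join (d := 12) (lo := 16384) (hi := 20480) (allR_join (d := 11) (lo := 16384) (hi := 18432) root_ok8 (by decide +kernel) root_ok9) (by decide +kernel) (allR_join (d := 11) (lo := 20480) (hi := 22528) root_ok10 (by decide +kernel) root_ok11)) (by decide +kernel) (allR_join (d := 12) (lo := 24576) (hi := 28672) (allR_join (d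 := 11) (lo := 24576) (hi := 26624) root_ok12 (by decide +kernel) root_ok13) (by decide +kernel) (allR_join (d := 11) (lo := 28672) (hi := 30720) root_ok14 (by decide +kernel) root_ok15))))

theorem root_same : allR (sameWord 31671 tb (dw 0) zw) 15 0 = true := by
  have h : sameWord 31671 tb (dw 0) zw = sameRoot := funext fun i => by
    simp only [sameWord, sameRoot, walkS_eq]
  rw [h]
  exact root_ok

end

end CfsgLib.Fi23Pts
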