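import Cfsg.Agent.Fi23Pts.RootCheck
import Cfsg.Agent.Fi23Pts.RootSame
import Cfsg.Agent.CosetEnum.Fi23Simple.Final

/-!
The 31671 points of `Cfsg.Spor.Fi23` as the conjugates of the generator `a`: the word of a point
and the dictionary between commuting and fixing.
-/

set_option autoImplicit false
set_option maxRecDepth 100000
set_option exponentiation.threshold 700000

namespace CfsgLib.Fi23Pts

open CfsgLib.CosetEnum

noncomputable section

/-- The presented group. -/
abbrev G : Type := Fi23.setup.Grp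

/-- The number of points. -/
abbrev N : ℕ := Fi23H.enum.n

theorem pw_spec {i : ℕ} (hi : i < 31671) : walkS (pw i) PA = i ∧ ∀ x ∈ pw i, x < 10 := by
  have h := allR_spec 15 0 pw_ok i (Nat.zero_le _) (by omega)
  unfold pwOK at h
  rw [show Nat.blt i 31671 = true by simpa using hi] at h
  simpa [List.all_eq_true] using h

theorem dw_lt {i : ℕ} (hi : i < 31671) : ∀ x ∈ dw i, x < 10 := by
  intro x hx
  simp only [dw, List.mem_append, List.mem_reverse, List.mem_cons] at hx
  rcases hx with h | rfl | h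
  · exact (pw_spec hi).2 x h
  · norm_num
  · exact (pw_spec hi).2 x h

theorem lt_of_pt (i : Fin N) : (i : ℕ) < 31671 := i.2

theorem rev_word (w : List ℕ) (hw : ∀ x ∈ w, x < 10) :
    prodw Fi23.setup.g w.reverse = (prodw Fi23.setup.g w)⁻¹ := by
  have := prodw_rev_iv Fi23.setup.g Fi23.setup.k id (fun x h h' => Fi23.setup.hiv x h h') w
    (fun y hy => ⟨hw y hy, hw y hy⟩)
  simpa using this

/-- The point of `a`. -/
def pa : Fin N := ⟨PA, show PA < 31671 by decide⟩

/-- The generator `a`. -/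
def A : G := Fi23.setup.g 0

/-- The transposition at a point. -/
def d (i : Fin N) : G := prodw Fi23.setup.g (dw i)

theorem A_mul_self : A * A = 1 := Fi23.setup.of_sq _

theorem d_eq (i : Fin N) : d i = (prodw Fi23.setup.g (pw i))⁻¹ * A * prodw Fi23.setup.g (pw i) := by
  rw [d, dw, prodw_append, prodw_cons, rev_word _ (pw_spec (lt_of_pt i)).2, mul_assoc]
  rfl

theorem d_mul_self (i : Fin N) : d i * d i = 1 := by
  rw [d_eq]
  calc _ = (prodw Fi23.setup.g (pw i))⁻¹ * (A * A) * prodw Fi23.setup.g (pw i) := by group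
    _ = 1 := by rw [A_mul_self]; group

theorem d_inv (i : Fin N) : (d i)⁻¹ = d i := inv_eq_of_mul_eq_one_right (d_mul_self i)

/-- The facts about the action on points. -/
structure Act where
  φ : G →* Equiv.Perm (Fin N)
  inj : Function.Injective φ
  spec : ∀ w : List ℕ, (∀ x ∈ w, x < 10) → ∀ i : Fin N, ((φ (prodw Fi23.setup.g w))⁻¹ i).val = walkS w i
  comm_pa : ∀ y : G, φ y pa = pa ↔ Commute y A
  card : Nat.card G = 4089470473293004800

theorem zw_eq : zw = Fi23.zWord.map Fi23.lm := by decide +kernel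

theorem exists_act : Nonempty Act := by
  haveI := Fi23.finite_grp
  obtain ⟨φ, e, hφ, he, he0, hinj, hG, hH, ψ, hsurj, hk2, hker⟩ := Fi23.order_and_action
  set z : G := prodw Fi23.setup.g zw with hz
  haveI : Finite Fi23H.enum.H := Fi23.H_finite_and_card_le.1
  obtain ⟨⟨w, hw⟩, hw1, -⟩ := (Nat.card_eq_two_iff' (1 : ψ.ker)).mp hk2
  have hwz : (w : G) = z := by
    rw [hz, zw_eq]
    exact (hker w hw).resolve_left fun h => hw1 (Subtype.ext h)
  have hle : Fi23H.enum.H ≤ Subgroup.centralizer ({z} : Set G) := fun u hu => by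
    rw [Subgroup.mem_centralizer_singleton_iff]
    have hc : (⟨u, hu⟩ : Fi23H.enum.H) * w * (⟨u, hu⟩ : Fi23H.enum.H)⁻¹ ∈ ψ.ker :=
      (MonoidHom.normal_ker ψ).conj_mem w hw _
    rcases hker _ hc with h | h
    · rw [mul_inv_eq_one, mul_eq_left] at h
      exact absurd (Subtype.ext h) hw1
    · rw [← zw_eq] at h
      have h2 : (((⟨u, hu⟩ : Fi23H.enum.H) * w * (⟨u, hu⟩ : Fi23H.enum.H)⁻¹ : Fi23H.enum.H) : G) = u * z * u⁻¹ := by
        simp [hwz]
      have h' : u * z * u⁻¹ = z := h2.symm.trans h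
      exact mul_inv_eq_iff_eq_mul.mp h'
  have hz1 : z ≠ 1 := fun h => hw1 (Subtype.ext (Subtype.ext (hwz.trans h)))
  have hne : Subgroup.centralizer ({z} : Set G) ≠ ⊤ := fun htop => hz1 (by
    haveI : IsSimpleGroup G := Fi23.isSimpleGroup_Fi23
    have hzc : z ∈ Subgroup.center G := by
      rw [Subgroup.mem_center_iff]
      intro u
      have hu : u ∈ Subgroup.centralizer ({z} : Set G) := htop ▸ Subgroup.mem_top u
      rwa [Subgroup.mem_centralizer_singleton_iff] at hu
    rcases (inferInstance : (Subgroup.center G).Normal).eq_bot_or_eq_top with h | h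
    · rw [h] at hzc
      exact Subgroup.mem_bot.mp hzc
    · exfalso
      letI : CommGroup G := Group.commGroupOfCenterEqTop h
      have hp : (Nat.card G).Prime := IsSimpleGroup.prime_card
      rw [hG] at hp
      exact absurd hp (by norm_num))
  have hC := (Fi23H.maximal φ e hφ he he0 hle).resolve_right hne
  have h0 : ∀ y : G, φ y 0 = 0 ↔ y ∈ Fi23H.enum.H := by
    intro y
    have h1 : φ y 0 = e (y : G ⧸ Fi23H.enum.H) := by
      rw [← he0, ← he y ((1 : G) : G ⧸ Fi23H.enum.H), MulAction.Quotient.smul_coe, smul_eq_mul, mul_one]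
    constructor
    · intro h
      have := e.injective (h1.symm.trans (h.trans he0.symm))
      simpa using QuotientGroup.eq.mp this.symm
    · intro h
      rw [h1, ← he0]
      refine congrArg e ?_
      rw [QuotientGroup.eq]
      simpa using inv_mem h
  have hlt0 : ∀ x ∈ pw 0, x < 10 := (pw_spec (show 0 < 31671 by norm_num)).2
  set r := prodw Fi23.setup.g (pw 0) with hr
  have hzA : r⁻¹ * A * r = z := by
    have key := prodw_eq_of_sameWord (S := Fi23.setup) hinj hφ (dw 0) zw
      (dw_lt (show 0 < 31671 by norm_num)) (show ∀ x ∈ zw, x < 10 by decide)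
      (show 31671 ≤ 2 ^ 15 by norm_num) root_same
    rw [hz, ← key, dw, prodw_append, prodw_cons, rev_word _ hlt0, mul_assoc]
    rfl
  have hr0 : φ r 0 = pa := by
    have h1 : (φ r)⁻¹ pa = 0 := Fin.ext (((hφ _ hlt0 pa).trans (walkS_eq _ _).symm).trans (pw_spec (show 0 < 31671 by norm_num)).1)
    exact (Equiv.Perm.inv_eq_iff_eq.mp h1).symm
  refine ⟨⟨φ, hinj, fun w hw i => (hφ w hw i).trans (walkS_eq _ _).symm, fun y => ?_, hG⟩⟩
  have h2 : φ y pa = pa ↔ φ (r⁻¹ * y * r) 0 = 0 := by
    rw [map_mul, map_mul, Equiv.Perm.mul_apply, Equiv.Perm.mul_apply, hr0, map_inv,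
      Equiv.Perm.inv_eq_iff_eq, hr0]
  rw [h2, h0, ← hC, Subgroup.mem_centralizer_singleton_iff, ← hzA]
  constructor
  · intro h
    show y * A = A * y
    calc y * A = r * ((r⁻¹ * y * r) * (r⁻¹ * A * r)) * r⁻¹ := by group
      _ = r * ((r⁻¹ * A * r) * (r⁻¹ * y * r)) * r⁻¹ := by rw [h]
      _ = A * y := by group
  · intro h
    calc (r⁻¹ * y * r) * (r⁻¹ * A * r) = r⁻¹ * (y * A) * r := by group
      _ = r⁻¹ * (A * y) * r := by rw [h.eq]
      _ = _ := by group

namespace Act

variable (S : Act)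
include S

theorem pw_root (i : Fin N) : S.φ (prodw Fi23.setup.g (pw i))⁻¹ pa = i := by
  apply Fin.ext
  rw [map_inv, S.spec _ (pw_spec (lt_of_pt i)).2]
  exact (pw_spec (lt_of_pt i)).1

theorem d_conj {y : G} {i j : Fin N} (h : S.φ y i = j) : d j = y * d i * y⁻¹ := by
  set ri := prodw Fi23.setup.g (pw i)
  set rj := prodw Fi23.setup.g (pw j)
  have h0 : S.φ (rj * y * ri⁻¹) pa = pa := by
    rw [map_mul, map_mul, Equiv.Perm.mul_apply, Equiv.Perm.mul_apply, S.pw_root i, h]
    have := S.pw_root j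
    rw [map_inv, Equiv.Perm.inv_eq_iff_eq] at this
    exact this.symm
  have hc : rj * y * ri⁻¹ * A = A * (rj * y * ri⁻¹) := ((S.comm_pa _).1 h0).eq
  rw [d_eq, d_eq]
  calc rj⁻¹ * A * rj = rj⁻¹ * (A * (rj * y * ri⁻¹)) * ri * y⁻¹ := by group
    _ = rj⁻¹ * (rj * y * ri⁻¹ * A) * ri * y⁻¹ := by rw [hc]
    _ = y * (ri⁻¹ * A * ri) * y⁻¹ := by group

theorem d_pa : d pa = A := by
  rw [d_eq]
  have h : pw (pa : ℕ) = [] := by
    show pwF PA 50 = []
    simp [pwF, PA]
  rw [h, prodw_nil, inv_one, one_mul, mul_one]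

theorem conj_A (y : G) : y * A * y⁻¹ = d (S.φ y pa) := by
  rw [S.d_conj (i := pa) (j := S.φ y pa) (y := y) rfl, S.d_pa]

theorem d_inj {i j : Fin N} (h : d i = d j) : i = j := by
  set ri := prodw Fi23.setup.g (pw i)
  set rj := prodw Fi23.setup.g (pw j)
  rw [d_eq, d_eq] at h
  have hc : Commute (rj * ri⁻¹) A := by
    show rj * ri⁻¹ * A = A * (rj * ri⁻¹)
    calc rj * ri⁻¹ * A = rj * (ri⁻¹ * A * ri) * ri⁻¹ := by group
      _ = rj * (rj⁻¹ * A * rj) * ri⁻¹ := by rw [h]
      _ = _ := by group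
  have h0 := (S.comm_pa _).2 hc
  rw [map_mul, Equiv.Perm.mul_apply, S.pw_root i] at h0
  rw [← S.pw_root j, map_inv]
  exact (Equiv.Perm.eq_inv_iff_eq.mpr h0)

theorem commute_iff (y : G) (q : Fin N) : Commute y (d q) ↔ S.φ y q = q := by
  constructor
  · intro h
    refine (S.d_inj ?_).symm
    rw [S.d_conj (i := q) (j := S.φ y q) (y := y) rfl, h.eq]
    group
  · intro h
    have := S.d_conj h
    show y * d q = d q * y
    conv_rhs => rw [this]
    group

theorem phi_d (p q : Fin N) : ((S.φ (d p) q : Fin N) : ℕ) = mv p q := by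
  conv_lhs => rw [← d_inv p, map_inv]
  exact S.spec _ (dw_lt (lt_of_pt p)) q

theorem com_iff (p q : Fin N) : com p q = true ↔ Commute (d p) (d q) := by
  rw [S.commute_iff, com, Nat.beq_eq, ← S.phi_d p q, Fin.val_inj]

theorem mv_lt (p q : Fin N) : mv p q < 31671 := S.phi_d p q ▸ lt_of_pt _

theorem com_map (y : G) (p q : Fin N) : com (S.φ y p) (S.φ y q) = com p q := by
  rw [Bool.eq_iff_iff, S.com_iff, S.com_iff, S.d_conj (i := p) (y := y) rfl,
    S.d_conj (i := q) (y := y) rfl]
  constructor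
  · intro h
    have := h.map (MulAut.conj y⁻¹)
    simpa [mul_assoc] using this
  · intro h
    exact h.map (MulAut.conj y)

end Act

end

end CfsgLib.Fi23Pts
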