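import Cfsg.Agent.Fi23Pts.Base

/-! Checks of the tree words. -/

set_option autoImplicit false
set_option maxRecDepth 100000
set_option Elab.async false

namespace CfsgLib.Fi23Pts

open CfsgLib.CosetEnum

noncomputable section

theorem pw_ok0 : allR pwOK 11 0 = true := by decide +kernel

theorem pw_ok1 : allR pwOK 11 2048 = true := by decide +kernel

theorem pw_ok2 : allR pwOK 11 4096 = true := by decide +kernel

theorem pw_ok3 : allR pwOK 11 6144 = true := by decide +kernel

theorem pw_ok4 : allR pwOK 11 8192 = true := by decide +kernel

theorem pw_ok5 : allR pwOK 11 10240 = true := by decide +kernel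

theorem pw_ok6 : allR pwOK 11 12288 = true := by decide +kernel

theorem pw_ok7 : allR pwOK 11 14336 = true := by decide +kernel

theorem pw_ok8 : allR pwOK 11 16384 = true := by decide +kernel

theorem pw_ok9 : allR pwOK 11 18432 = true := by decide +kernel

theorem pw_ok10 : allR pwOK 11 20480 = true := by decide +kernel

theorem pw_ok11 : allR pwOK 11 22528 = true := by decide +kernel

theorem pw_ok12 : allR pwOK 11 24576 = true := by decide +kernel

theorem pw_ok13 : allR pwOK 11 26624 = true := by decide +kernel

theorem pw_ok14 : allR pwOK 11 28672 = true := by decide +kernel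

theorem pw_ok15 : allR pwOK 11 30720 = true := by decide +kernel

theorem pw_ok : allR pwOK 15 0 = true :=
  (allR_join (d := 14) (lo := 0) (hi := 16384) (allR_join (d := 13) (lo := 0) (hi := 8192) (allR_join (d := 12) (lo := 0) (hi := 4096) (allR_join (d := 11) (lo := 0) (hi := 2048) pw_ok0 (by decide +kernel) pw_ok1) (by decide +kernel) (allR_join (d := 11) (lo := 4096) (hi := 6144) pw_ok2 (by decide +kernel) pw_ok3)) (by decide +kernel) (allR_join (d := 12) (lo := 8192) (hi := 12288) (allR_join (d := 11) (lo := 8192) (hi := 10240) pw_ok4 (by decide +kernel) pw_ok5) (by decide +kernel) (allR_join (d := 11) (lo := 12288) (hi := 14336) pw_ok6 (by decide +kernel) pw_ok7))) (by decide +kernel) (allR_join (d := 13) (lo := 16384) (hi := 24576) (allR_join (d := 12) (lo := 16384) (hi := 20480) (allR_join (d := 11) (lo := 16384) (hi := 18432) pw_ok8 (by decide +kernel) pw_ok9) (by decide +kernel) (allR_join (d := 11) (lo := 20480) (hi := 22528) pw_ok10 (by decide +kernel) pw_ok11)) (by decide +kernel) (allR_join (d := 12) (lo := 24576) (hi := 28672) (allR_join (d := 11) (lo := 24576) (hi :=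 26624) pw_ok12 (by decide +kernel) pw_ok13) (by decide +kernel) (allR_join (d := 11) (lo := 28672) (hi := 30720) pw_ok14 (by decide +kernel) pw_ok15))))

end

end CfsgLib.Fi23Pts
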